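import Mathlib

/-!
# Invariant rings are étale below a prime with separated conjugates

Let a finite group `G` act on `R` with invariant ring `A`, let `H ≤ G` and let `B` be the ring of
`H`-invariants. If some `e : B` has `g • e - e ∉ q` for all `g ∉ H`, then `B` is étale over `A` at
`q ∩ B`: near `q`, `B` is the standard étale algebra attached to `∏ (X - g • e)` over `G ⧸ H`.
-/

universe u

open Polynomial
open scoped TensorProduct

namespace Groth.Agent.InertiaEtale4

variable {A B R G : Type u} [CommRing A] [CommRing B] [CommRing R] [Algebra A R] [Algebra A B]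
  [Group G] [MulSemiringAction G R] [SMulCommClass G A R]

/-- The orbit map on cosets of an `H`-invariant element. -/
def orb (H : Subgroup G) (r : R) (hr : ∀ h ∈ H, h • r = r) : G ⧸ H → R :=
  Quotient.lift (fun g => g • r) fun g g' hgg' => by
    have h : g⁻¹ * g' ∈ H := QuotientGroup.leftRel_apply.mp hgg'
    calc g • r = g • ((g⁻¹ * g') • r) := by rw [hr _ h]
      _ = g' • r := by rw [← mul_smul, mul_inv_cancel_left]

@[simp] theorem orb_mk (H : Subgroup G) (r : R) (hr : ∀ h ∈ H, h • r = r) (g : G) :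
    orb H r hr (g : G ⧸ H) = g • r := rfl

theorem smul_orb (H : Subgroup G) (r : R) (hr : ∀ h ∈ H, h • r = r) (g : G) (x : G ⧸ H) :
    g • orb H r hr x = orb H r hr (g • x) := by
  induction x using QuotientGroup.induction_on with
  | H g' => exact (mul_smul g g' r).symm

variable [Finite G] [Algebra.IsInvariant A R G]

omit [Finite G] in
variable (A G) in
theorem exists_lift_poly (p : R[X]) (hp : ∀ g : G, p.map (MulSemiringAction.toRingHom G R g) = p) :
    p ∈ Polynomial.lifts (algebraMap A R) := by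
  refine (lifts_iff_coeff_lifts p).mpr fun n => ?_
  refine Algebra.IsInvariant.isInvariant (G := G) _ fun g => ?_
  conv_rhs => rw [← hp g, coeff_map]
  rfl

theorem exists_mem_range_of_invariant (E : Type u) [CommRing E] [Algebra A E] [Module.Flat A E]
    (z : E ⊗[A] R)
    (hz : ∀ g : G, Algebra.TensorProduct.map (AlgHom.id A E) (MulSemiringAction.toAlgHom A R g) z = z) :
    ∃ x : E, x ⊗ₜ[A] (1 : R) = z := by
  classical
  cases nonempty_fintype G
  let δ : R →ₗ[A] (G → R) :=
    LinearMap.pi fun g => (MulSemiringAction.toAlgHom A R g).toLinearMap - LinearMap.id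
  have hexact : Function.Exact (Algebra.linearMap A R) δ := by
    intro r
    constructor
    · intro h
      refine Algebra.IsInvariant.isInvariant (G := G) r fun g => ?_
      have := congrFun h g
      simpa [δ, sub_eq_zero] using this
    · rintro ⟨a, rfl⟩
      funext g
      simp [δ]
  have h0 : δ.lTensor E z = 0 := by
    apply (TensorProduct.piRight A A E fun _ : G => R).injective
    rw [map_zero]
    funext g
    have key : ∀ w : E ⊗[A] R, TensorProduct.piRight A A E (fun _ : G => R) (δ.lTensor E w) g =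
        Algebra.TensorProduct.map (AlgHom.id A E) (MulSemiringAction.toAlgHom A R g) w - w := by
      intro w
      induction w with
      | zero => simp
      | tmul c q => simp [δ, TensorProduct.tmul_sub]
      | add a b ha hb => simp only [map_add, Pi.add_apply, ha, hb]; abel
    rw [key, hz, sub_self, Pi.zero_apply]
  obtain ⟨w, hw⟩ := (Module.Flat.lTensor_exact E hexact z).mp h0
  refine ⟨TensorProduct.rid A E w, ?_⟩
  rw [← hw]
  clear hw
  induction w with
  | zero => simp
  | tmul c a =>
    simp only [TensorProduct.rid_tmul, LinearMap.lTensor_tmul, Algebra.linearMap_apply]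
    rw [TensorProduct.smul_tmul, Algebra.smul_def, mul_one]
  | add a b ha hb => simp only [map_add, TensorProduct.add_tmul, ha, hb]

/-- The core statement. -/
theorem exists_etale_away (hinj : Function.Injective (algebraMap A R)) (j : B →ₐ[A] R)
    (hj : Function.Injective j) (H : Subgroup G)
    (hB : ∀ r : R, (∃ b, j b = r) ↔ ∀ h ∈ H, h • r = r)
    (q : Ideal R) [q.IsPrime] (e : B) (he : ∀ g : G, g ∉ H → g • j e - j e ∉ q) :
    ∃ b : B, j b ∉ q ∧ Algebra.Etale A (Localization.Away b) := by
  classical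
  cases nonempty_fintype G
  letI : Fintype (G ⧸ H) := Fintype.ofFinite _
  have hfix : ∀ b : B, ∀ h ∈ H, h • j b = j b := fun b => (hB _).mp ⟨b, rfl⟩
  let x₀ : G ⧸ H := ((1 : G) : G ⧸ H)
  let c : G ⧸ H → R := orb H (j e) (hfix e)
  have hc0 : c x₀ = j e := one_smul G _
  have hc : ∀ x, x ≠ x₀ → c x - j e ∉ q := by
    intro x
    induction x using QuotientGroup.induction_on with
    | H g =>
      intro hx
      refine he g fun hg => hx ?_
      exact QuotientGroup.eq.mpr (by simpa using hg)
  -- the polynomial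
  let F : R[X] := ∏ x, (X - C (c x))
  let F₁ : R[X] := ∏ x ∈ Finset.univ.erase x₀, (X - C (c x))
  have hF : F = (X - C (j e)) * F₁ := by
    rw [← hc0]
    exact (Finset.mul_prod_erase _ (fun x => X - C (c x)) (Finset.mem_univ x₀)).symm
  have hFinv : ∀ g : G, F.map (MulSemiringAction.toRingHom G R g) = F := by
    intro g
    rw [Polynomial.map_prod]
    refine Fintype.prod_equiv (MulAction.toPerm g) _ _ fun x => ?_
    rw [Polynomial.map_sub, map_X, map_C]
    show X - C (g • c x) = X - C (c (g • x))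
    rw [smul_orb]
  obtain ⟨FA, hFA, -, hFAm⟩ := lifts_and_natDegree_eq_and_monic (exists_lift_poly A G F hFinv)
    (monic_prod_of_monic _ _ fun x _ => monic_X_sub_C (c x))
  let P : StandardEtalePair A := ⟨FA, hFAm, derivative FA, 1, 0, 1, by simp⟩
  let E := P.Ring
  let d : B := aeval e (derivative FA)
  have hevalF : ∀ p : A[X], j (aeval e p) = (p.map (algebraMap A R)).eval (j e) := fun p => by
    rw [← aeval_algHom_apply, eval_map_algebraMap]
  have hroot : aeval e FA = 0 := hj (by rw [hevalF, hFA, map_zero, hF]; simp)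
  have hjd : j d = F₁.eval (j e) := by
    rw [hevalF, ← derivative_map, hFA, hF]
    simp [derivative_mul]
  have hjdq : j d ∉ q := by
    rw [hjd, eval_prod]
    intro h
    obtain ⟨x, hx, hxq⟩ := Ideal.IsPrime.prod_mem_iff.mp h
    refine hc x (Finset.ne_of_mem_erase hx) ?_
    simpa using q.neg_mem hxq
  -- interpolation
  have hinterp : ∀ y : B, ∃ p : A[X], aeval e p = y * d := by
    intro y
    let o : G ⧸ H → R := orb H (j y) (hfix y)
    let Gy : R[X] := ∑ x, C (o x) * ∏ t ∈ Finset.univ.erase x, (X - C (c t))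
    have hGinv : ∀ g : G, Gy.map (MulSemiringAction.toRingHom G R g) = Gy := by
      intro g
      rw [Polynomial.map_sum]
      refine Fintype.sum_equiv (MulAction.toPerm g) _ _ fun x => ?_
      rw [Polynomial.map_mul, map_C, Polynomial.map_prod]
      show C (g • o x) * _ = C (o (g • x)) * _
      rw [smul_orb]
      congr 1
      refine Finset.prod_equiv (MulAction.toPerm g) (fun t => ?_) fun t _ => ?_
      · simp
      · rw [Polynomial.map_sub, map_X, map_C]
        show X - C (g • c t) = X - C (c (g • t))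
        rw [smul_orb]
    obtain ⟨p, hp⟩ := (mem_lifts _).mp (exists_lift_poly A G Gy hGinv)
    refine ⟨p, hj ?_⟩
    rw [hevalF, hp, map_mul, hjd, eval_finset_sum, Finset.sum_eq_single x₀]
    · rw [eval_mul, eval_C, show o x₀ = j y from one_smul G _]
    · intro x _ hx
      rw [eval_mul, eval_prod,
        Finset.prod_eq_zero (Finset.mem_erase.mpr ⟨Ne.symm hx, Finset.mem_univ x₀⟩) (by simp [hc0]),
        mul_zero]
    · simp
  -- representatives in `E`
  have hrep : ∀ x : E, ∃ (p : A[X]) (n : ℕ), x * aeval P.X P.g ^ n = aeval P.X p := fun x =>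
    StandardEtalePresentation.exists_mul_aeval_x_g_pow_eq_aeval_x
      (⟨P, P.X, P.hasMap_X, by
          rw [StandardEtalePair.lift_X_left]
          exact Function.bijective_id⟩ :
        StandardEtalePresentation A E) x
  have hgu : IsUnit (aeval P.X P.g) := P.hasMap_X.2
  -- the map to `B[1/d]`
  let Bd := Localization.Away d
  let φ : E →ₐ[A] Bd := P.lift (algebraMap B Bd e) ⟨by
      show aeval (algebraMap B Bd e) FA = 0
      rw [aeval_algebraMap_apply, hroot, map_zero], by
      show IsUnit (aeval (algebraMap B Bd e) (derivative FA))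
      rw [aeval_algebraMap_apply]
      exact IsLocalization.Away.algebraMap_isUnit d⟩
  have hφp : ∀ p : A[X], φ (aeval P.X p) = algebraMap B Bd (aeval e p) := fun p => by
    rw [← aeval_algHom_apply, StandardEtalePair.lift_X, aeval_algebraMap_apply]
  -- an element of `E` killing `ker φ`, nonzero at the point
  haveI : Algebra.Etale A E := inferInstance
  haveI : Module.Flat A E := inferInstance
  let ι : E →ₐ[A] E ⊗[A] R := Algebra.TensorProduct.includeLeft
  let ρ : R →ₐ[A] E ⊗[A] R := Algebra.TensorProduct.includeRight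
  let ev : R[X] →+* E ⊗[A] R := eval₂RingHom ρ.toRingHom (ι P.X)
  have hevA : ∀ p : A[X], ev (p.map (algebraMap A R)) = ι (aeval P.X p) := fun p => by
    show (p.map (algebraMap A R)).eval₂ ρ.toRingHom (ι P.X) = _
    rw [eval₂_map, ← aeval_algHom_apply, aeval_def]
    congr 1
    exact ρ.comp_algebraMap
  let ε : E ⊗[A] R := ev F₁
  have hεt : ε * (ι P.X - ρ (j e)) = 0 := by
    have h0 : ev F = 0 := by rw [← hFA, hevA, show aeval P.X FA = 0 from P.hasMap_X.1, map_zero]
    rw [hF, map_mul, mul_comm] at h0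
    simpa [ev, ε] using h0
  have hεp : ∀ p : A[X], ε * ι (aeval P.X p) = ε * ρ (j (aeval e p)) := by
    intro p
    obtain ⟨z, hz⟩ := sub_dvd_eval_sub (ι P.X) (ρ (j e)) (p.map (algebraMap A (E ⊗[A] R)))
    rw [eval_map_algebraMap, eval_map_algebraMap, aeval_algHom_apply, aeval_algHom_apply,
      aeval_algHom_apply] at hz
    rw [← sub_eq_zero, ← mul_sub, hz, ← mul_assoc, hεt, zero_mul]
  have hεker : ∀ h : E, φ h = 0 → ε * ι h = 0 := by
    intro h hh
    obtain ⟨p, n, hp⟩ := hrep h
    have h1 : algebraMap B Bd (aeval e p) = 0 := by rw [← hφp, ← hp, map_mul, hh, zero_mul]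
    obtain ⟨⟨_, m, rfl⟩, hm⟩ := (IsLocalization.map_eq_zero_iff (Submonoid.powers d) Bd _).mp h1
    have h2 : ε * ι (aeval P.X (P.g ^ m * p)) = 0 := by
      rw [hεp, map_mul, map_pow, show aeval e P.g = d from rfl,
        show d ^ m * aeval e p = 0 from hm, map_zero, map_zero, mul_zero]
    rw [map_mul, map_pow, ← hp, map_mul, map_mul, map_pow, map_pow] at h2
    have hu := hgu.map ι
    refine (((hu.pow m).mul (hu.pow n)).mul_left_eq_zero).mp ?_
    rw [← h2]; ring
  let κ := FractionRing (R ⧸ q)
  let π : R →ₐ[A] κ := IsScalarTower.toAlgHom A R κ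
  have hπ : ∀ r, π r = 0 ↔ r ∈ q := fun r => by
    show algebraMap R κ r = 0 ↔ _
    rw [IsScalarTower.algebraMap_apply R (R ⧸ q) κ, map_eq_zero_iff _ (IsFractionRing.injective (R ⧸ q) κ),
      Ideal.Quotient.algebraMap_eq, Ideal.Quotient.eq_zero_iff_mem]
  let ψ₁ : E →ₐ[A] κ := P.lift (π (j e)) ⟨by
      show aeval (π (j e)) FA = 0
      rw [aeval_algHom_apply, aeval_algHom_apply, hroot, map_zero, map_zero], by
      show IsUnit (aeval (π (j e)) (derivative FA))
      rw [aeval_algHom_apply, aeval_algHom_apply, isUnit_iff_ne_zero]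
      exact fun h => hjdq ((hπ _).mp h)⟩
  let ψ : E ⊗[A] R →ₐ[A] κ := Algebra.TensorProduct.productMap ψ₁ π
  have hψι : ∀ x, ψ (ι x) = ψ₁ x := fun x => by simp [ψ, ι]
  have hψρ : ∀ r, ψ (ρ r) = π r := fun r => by simp [ψ, ρ]
  have hψε : ψ ε ≠ 0 := by
    have : ψ ε = π (F₁.eval (j e)) := by
      show ψ.toRingHom (F₁.eval₂ ρ.toRingHom (ι P.X)) = π.toRingHom (F₁.eval (j e))
      rw [hom_eval₂, ← eval₂_at_apply]
      congr 1
      · ext r; exact hψρ r
      · exact (hψι _).trans (StandardEtalePair.lift_X _ _ _)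
    rw [this, ← hjd]
    exact fun h => hjdq ((hπ _).mp h)
  let γ : G → (E ⊗[A] R →ₐ[A] E ⊗[A] R) := fun g =>
    Algebra.TensorProduct.map (AlgHom.id A E) (MulSemiringAction.toAlgHom A R g)
  have hγι : ∀ g x, γ g (ι x) = ι x := fun g x => by simp [γ, ι]
  have hγmul : ∀ g g' z, γ g (γ g' z) = γ (g * g') z := by
    intro g g' z
    induction z with
    | zero => simp
    | tmul a r => simp [γ, mul_smul]
    | add a b ha hb => simp only [map_add, ha, hb]
  have hγone : ∀ z, γ 1 z = z := by
    intro z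
    induction z with
    | zero => simp
    | tmul a r => simp [γ]
    | add a b ha hb => simp only [map_add, ha, hb]
  let N : Ideal (E ⊗[A] R) :=
    { carrier := {z | ∀ h : E, φ h = 0 → z * ι h = 0}
      add_mem' := fun {a b} ha hb h hh => by rw [add_mul, ha h hh, hb h hh, add_zero]
      zero_mem' := fun h _ => zero_mul _
      smul_mem' := fun a z hz h hh => by rw [smul_eq_mul, mul_assoc, hz h hh, mul_zero] }
  have hγN : ∀ g, γ g ε ∈ N := fun g h hh => by
    rw [← hγι g h, ← map_mul, hεker h hh, map_zero]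
  obtain ⟨b, hbN, hb⟩ : ∃ b ∈ N, ∀ g : G, ψ (γ g b) ≠ 0 := by
    by_contra hcon
    push Not at hcon
    have hsub : (N : Set (E ⊗[A] R)) ⊆
        ⋃ g ∈ ((Finset.univ : Finset G) : Set G),
          (RingHom.ker (ψ.comp (γ g)) : Set (E ⊗[A] R)) := by
      intro z hz
      obtain ⟨g, hg⟩ := hcon z hz
      exact Set.mem_biUnion (by simp) (show z ∈ RingHom.ker (ψ.comp (γ g)) from hg)
    obtain ⟨g, -, hle⟩ := (Ideal.subset_union_prime 1 1 fun g _ _ _ => RingHom.ker_isPrime _).mp hsub
    have := hle (hγN g⁻¹)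
    rw [RingHom.mem_ker] at this
    apply hψε
    simpa [hγmul, hγone] using this
  have hs'inv : ∀ g, γ g (∏ g', γ g' b) = ∏ g', γ g' b := fun g => by
    rw [map_prod]
    exact Fintype.prod_equiv (Equiv.mulLeft g) _ _ fun g' => hγmul g g' b
  obtain ⟨s, hs⟩ := exists_mem_range_of_invariant E _ hs'inv
  have hsι : ι s = ∏ g', γ g' b := hs
  have hskill : ∀ h : E, φ h = 0 → s * h = 0 := by
    intro h hh
    apply Algebra.TensorProduct.includeLeft_injective (S := A) (A := E) hinj
    rw [map_mul, map_zero]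
    show ι s * ι h = 0
    rw [hsι, ← Finset.mul_prod_erase _ _ (Finset.mem_univ (1 : G)), hγone, mul_right_comm, hbN h hh, zero_mul]
  have hψs : ψ₁ s ≠ 0 := by
    rw [← hψι, hsι, map_prod]
    exact Finset.prod_ne_zero_iff.mpr fun g _ => hb g
  obtain ⟨ps, k, hps⟩ := hrep s
  let b₀ : B := aeval e ps
  have hψp : ∀ p : A[X], ψ₁ (aeval P.X p) = π (j (aeval e p)) := fun p => by
    rw [← aeval_algHom_apply, StandardEtalePair.lift_X, aeval_algHom_apply, aeval_algHom_apply]
  have hb₀ : j b₀ ∉ q := by
    rw [← hπ, ← hψp, ← hps, map_mul, map_pow, hψp]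
    exact mul_ne_zero hψs (pow_ne_zero _ fun h => hjdq ((hπ _).mp h))
  refine ⟨d * b₀, ?_, ?_⟩
  · rw [map_mul]
    exact fun h => (‹q.IsPrime›.mem_or_mem h).elim hjdq hb₀
  -- `E[1/s] ≅ B[1/(d b₀)]`
  let Bb := Localization.Away (d * b₀)
  have hdb : IsUnit (algebraMap B Bb d) ∧ IsUnit (algebraMap B Bb b₀) := by
    have := IsLocalization.Away.algebraMap_isUnit (S := Bb) (d * b₀)
    rw [map_mul, IsUnit.mul_iff] at this
    exact this
  let Φ : E →ₐ[A] Bb := P.lift (algebraMap B Bb e) ⟨by
      show aeval (algebraMap B Bb e) FA = 0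
      rw [aeval_algebraMap_apply, hroot, map_zero], by
      show IsUnit (aeval (algebraMap B Bb e) (derivative FA))
      rw [aeval_algebraMap_apply]
      exact hdb.1⟩
  have hΦp : ∀ p : A[X], Φ (aeval P.X p) = algebraMap B Bb (aeval e p) := fun p => by
    rw [← aeval_algHom_apply, StandardEtalePair.lift_X, aeval_algebraMap_apply]
  have hΦs : IsUnit (Φ s) := by
    have : IsUnit (Φ (s * aeval P.X P.g ^ k)) := by rw [hps, hΦp]; exact hdb.2
    rw [map_mul, IsUnit.mul_iff] at this
    exact this.1
  let Es := Localization.Away s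
  let Θ : Es →ₐ[A] Bb := IsLocalization.liftAlgHom (M := Submonoid.powers s) (f := Φ) (by
    rintro ⟨_, n, rfl⟩
    simpa using hΦs.pow n)
  have hΘ : ∀ x : E, Θ (algebraMap E Es x) = Φ x := fun x => IsLocalization.lift_eq _ x
  have hus : IsUnit (algebraMap E Es s) := IsLocalization.Away.algebraMap_isUnit s
  have hΘinj : Function.Injective Θ := by
    refine (injective_iff_map_eq_zero Θ).mpr fun z hz => ?_
    obtain ⟨h, ⟨_, n, rfl⟩, rfl⟩ := IsLocalization.exists_mk'_eq (Submonoid.powers s) z
    have hΦh : Φ h = 0 := by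
      rw [← hΘ, ← IsLocalization.mk'_spec Es h (⟨s ^ n, n, rfl⟩ : Submonoid.powers s), map_mul, hz, zero_mul]
    obtain ⟨p, l, hp⟩ := hrep h
    have h1 : algebraMap B Bb (aeval e p) = 0 := by rw [← hΦp, ← hp, map_mul, hΦh, zero_mul]
    obtain ⟨⟨_, m, rfl⟩, hm⟩ := (IsLocalization.map_eq_zero_iff (Submonoid.powers (d * b₀)) Bb _).mp h1
    have hφ0 : φ (s ^ m * h) = 0 := by
      have hud : IsUnit (algebraMap B Bd d) := IsLocalization.Away.algebraMap_isUnit d
      have : φ (aeval P.X (P.g ^ m * (ps ^ m * p))) = 0 := by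
        have hm' : d ^ m * (b₀ ^ m * aeval e p) = 0 := by
          rw [← mul_assoc, ← mul_pow]; exact hm
        have he' : aeval e (P.g ^ m * (ps ^ m * p)) = d ^ m * (b₀ ^ m * aeval e p) := by
          rw [map_mul, map_pow, map_mul, map_pow]
        rw [hφp, he', hm', map_zero]
      simp only [map_mul, map_pow, ← hps, ← hp, mul_pow] at this
      have hg' := (hgu.map φ)
      refine ((((hg'.pow m).mul ((hg'.pow k).pow m)).mul (hg'.pow l)).mul_left_eq_zero).mp ?_
      simp only [map_mul, map_pow]
      rw [← this]; ring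
    have h0 : algebraMap E Es h = 0 := by
      refine ((hus.mul (hus.pow m)).mul_right_eq_zero).mp ?_
      rw [← map_pow, ← map_mul, ← map_mul, mul_assoc, hskill _ hφ0, map_zero]
    exact IsLocalization.mk'_eq_zero_iff _ _ |>.mpr ((IsLocalization.map_eq_zero_iff _ Es h).mp h0)
  have hΘsurj : Function.Surjective Θ := by
    intro z
    obtain ⟨y, ⟨_, n, rfl⟩, rfl⟩ := IsLocalization.exists_mk'_eq (Submonoid.powers (d * b₀)) z
    obtain ⟨p, hp⟩ := hinterp y
    let w : E := aeval P.X P.g * (aeval P.X P.g * aeval P.X ps) ^ n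
    have hw : IsUnit (algebraMap E Es w) := by
      simp only [w, ← hps, map_mul, map_pow]
      exact (hgu.map _).mul (((hgu.map _).mul (hus.mul ((hgu.map _).pow k))).pow n)
    refine ⟨algebraMap E Es (aeval P.X p) * ↑hw.unit⁻¹, ?_⟩
    have hΦw : Θ (algebraMap E Es w) = algebraMap B Bb (d * (d * b₀) ^ n) := by
      rw [hΘ]
      simp only [w, map_mul, map_pow, hΦp]
      rfl
    refine (hw.map Θ).mul_left_injective ?_
    dsimp only
    rw [← map_mul Θ, mul_assoc, IsUnit.val_inv_mul, mul_one, hΘ, hΦp, hp, hΦw, map_mul, map_mul,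
      mul_left_comm, IsLocalization.mk'_spec, mul_comm]
  exact Algebra.Etale.of_equiv (AlgEquiv.ofBijective Θ ⟨hΘinj, hΘsurj⟩)

end Groth.Agent.InertiaEtale4
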