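import Mathlib

/-!
# An inertia-invariant element separating the conjugates
-/

universe u

open Polynomial
open scoped Pointwise

namespace Groth.Agent.InertiaEtale4

variable {A R G : Type u} [CommRing A] [CommRing R] [Algebra A R] [Group G] [Finite G]
  [MulSemiringAction G R] [SMulCommClass G A R]

theorem mem_inertia {q : Ideal R} {g : G} : g ∈ q.inertia G ↔ ∀ x : R, g • x - x ∈ q := Iff.rfl

omit [Algebra A R] [SMulCommClass G A R] [CommRing A] in
/-- Inertia-invariants see every element outside the inertia group. -/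
theorem exists_fixed_sub_notMem (q : Ideal R) [q.IsPrime] {g : G} (hg : g ∉ q.inertia G) :
    ∃ e : R, (∀ i ∈ q.inertia G, i • e = e) ∧ g • e - e ∉ q := by
  classical
  letI : Fintype (q.inertia G) := Fintype.ofFinite _
  rw [mem_inertia] at hg
  push Not at hg
  obtain ⟨x, hx⟩ := hg
  let P : R[X] := ∏ i : q.inertia G, (X - C ((i : G) • x))
  have hPi : ∀ i ∈ q.inertia G, P.map (MulSemiringAction.toRingHom G R i) = P := by
    intro i hi
    rw [Polynomial.map_prod]
    refine Fintype.prod_equiv (Equiv.mulLeft (⟨i, hi⟩ : q.inertia G)) _ _ fun k => ?_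
    rw [Polynomial.map_sub, map_X, map_C]
    show X - C (i • (k : G) • x) = _
    rw [← mul_smul]
    rfl
  by_contra hall
  push Not at hall
  have heq : (P.map (MulSemiringAction.toRingHom G R g)).map (Ideal.Quotient.mk q) =
      P.map (Ideal.Quotient.mk q) := by
    ext n
    rw [coeff_map, coeff_map, coeff_map]
    refine Ideal.Quotient.eq.mpr (hall (P.coeff n) fun i hi => ?_)
    conv_rhs => rw [← hPi i hi, coeff_map]
    rfl
  have hR : P.map (Ideal.Quotient.mk q) = (X - C (Ideal.Quotient.mk q x)) ^ Fintype.card (q.inertia G) := by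
    rw [Polynomial.map_prod, ← Finset.card_univ, ← Finset.prod_const]
    refine Finset.prod_congr rfl fun k _ => ?_
    rw [Polynomial.map_sub, map_X, map_C, show Ideal.Quotient.mk q ((k : G) • x) = Ideal.Quotient.mk q x
      from Ideal.Quotient.eq.mpr (mem_inertia.mp k.2 x)]
  have h0 : ((P.map (MulSemiringAction.toRingHom G R g)).map (Ideal.Quotient.mk q)).eval
      (Ideal.Quotient.mk q (g • x)) = 0 := by
    rw [Polynomial.map_map, Polynomial.map_prod, eval_prod]
    refine Finset.prod_eq_zero (Finset.mem_univ 1) ?_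
    simp
  rw [heq, hR, eval_pow, eval_sub, eval_X, eval_C] at h0
  exact hx (Ideal.Quotient.eq.mp (sub_eq_zero.mp (pow_eq_zero_iff Fintype.card_ne_zero |>.mp h0)))

variable [Algebra.IsInvariant A R G]

variable (A G) in
include G in
/-- If the residue ring below is finite, so is the residue ring above. -/
theorem finite_quotient (q : Ideal R) [q.IsPrime] [Finite (A ⧸ q.comap (algebraMap A R))] :
    Finite (R ⧸ q) := by
  classical
  cases nonempty_fintype G
  let f : A ⧸ q.comap (algebraMap A R) →+* R ⧸ q := Ideal.quotientMap q (algebraMap A R) le_rfl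
  let n := Fintype.card G
  let toPoly : (Fin n → A ⧸ q.comap (algebraMap A R)) → (R ⧸ q)[X] := fun v =>
    X ^ n + ∑ i : Fin n, C (f (v i)) * X ^ (i : ℕ)
  have hne : ∀ v, toPoly v ≠ 0 := fun v h => by
    have hlt : (∑ i : Fin n, C (f (v i)) * X ^ (i : ℕ)).degree < (n : WithBot ℕ) :=
      degree_sum_fin_lt fun i => f (v i)
    have := congrArg degree h
    rw [degree_add_eq_left_of_degree_lt (by rwa [degree_X_pow]), degree_X_pow, degree_zero] at this
    exact WithBot.natCast_ne_bot n this
  refine Set.finite_univ_iff.mp (Set.Finite.subset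
    (Set.finite_iUnion fun v => (finite_setOfPred_isRoot (hne v))) ?_)
  intro y _
  obtain ⟨x, rfl⟩ := Ideal.Quotient.mk_surjective y
  obtain ⟨p, hp, hdeg, hmon⟩ := lifts_and_natDegree_eq_and_monic
    (Algebra.IsInvariant.charpoly_mem_lifts A R G x) (MulSemiringAction.monic_charpoly G x)
  have hn : p.natDegree = n := by
    haveI : Nontrivial R := nontrivial_of_ne 0 1 fun h =>
      Ideal.IsPrime.ne_top ‹_› ((Ideal.eq_top_iff_one _).mpr (h ▸ q.zero_mem))
    rw [hdeg, MulSemiringAction.charpoly_eq, natDegree_prod_of_monic _ _ fun g _ => monic_X_sub_C _]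
    simp [n]
  refine Set.mem_iUnion.mpr ⟨fun i => Ideal.Quotient.mk _ (p.coeff i), ?_⟩
  show IsRoot _ _
  have h0 : aeval x p = 0 := by
    rw [← eval_map_algebraMap, hp, MulSemiringAction.eval_charpoly]
  rw [aeval_eq_sum_range, hn, Finset.sum_range_succ, ← hn, hmon.coeff_natDegree, one_smul, hn,
    Finset.sum_range] at h0
  have := congrArg (Ideal.Quotient.mk q) h0
  simp only [map_add, map_sum, map_pow, map_zero, Algebra.smul_def, map_mul] at this
  simp only [IsRoot, toPoly, eval_add, eval_pow, eval_X, eval_finset_sum, eval_mul, eval_C]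
  rw [← this, add_comm]
  rfl

variable (A) in
include A in
/-- Some inertia-invariant element separates all elements outside the inertia group. -/
theorem exists_separating (q : Ideal R) [hqp : q.IsPrime] :
    ∃ e : R, (∀ i ∈ q.inertia G, i • e = e) ∧ ∀ g : G, g ∉ q.inertia G → g • e - e ∉ q := by
  classical
  cases nonempty_fintype G
  by_cases hfin : Finite (A ⧸ q.comap (algebraMap A R))
  swap
  · haveI : Infinite (A ⧸ q.comap (algebraMap A R)) := not_finite_iff_infinite.mp hfin
    suffices ∀ S : Finset G, (∀ g ∈ S, g ∉ q.inertia G) →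
        ∃ e : R, (∀ i ∈ q.inertia G, i • e = e) ∧ ∀ g ∈ S, g • e - e ∉ q by
      obtain ⟨e, he, h⟩ := this (Finset.univ.filter fun g => g ∉ q.inertia G) fun g hg =>
        (Finset.mem_filter.mp hg).2
      exact ⟨e, he, fun g hg => h g (Finset.mem_filter.mpr ⟨Finset.mem_univ _, hg⟩)⟩
    intro S
    induction S using Finset.induction with
    | empty => exact fun _ => ⟨0, fun i _ => smul_zero i, by simp⟩
    | insert g₀ S hg₀ ih =>
      intro hS
      obtain ⟨u, hu, huS⟩ := ih fun g hg => hS g (Finset.mem_insert_of_mem hg)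
      obtain ⟨w, hw, hwg⟩ := exists_fixed_sub_notMem q (hS g₀ (Finset.mem_insert_self _ _))
      -- the bad residues for each element
      have hbad : ∀ g : G, ∃ b : A ⧸ q.comap (algebraMap A R), g • w - w ∉ q → ∀ c : A,
          g • (u + c • w) - (u + c • w) ∈ q → Ideal.Quotient.mk _ c = b := by
        intro g
        by_cases h : ∃ c : A, g • (u + c • w) - (u + c • w) ∈ q
        · obtain ⟨c₀, hc₀⟩ := h
          refine ⟨Ideal.Quotient.mk _ c₀, fun hgw c hc => Ideal.Quotient.eq.mpr ?_⟩
          have : algebraMap A R (c - c₀) * (g • w - w) ∈ q := by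
            have := q.sub_mem hc hc₀
            simp only [smul_add, Algebra.smul_def, smul_mul', smul_algebraMap] at this
            convert this using 1
            rw [map_sub]; ring
          exact (hqp.mem_or_mem this).resolve_right hgw
        · exact ⟨0, fun _ c hc => (h ⟨c, hc⟩).elim⟩
      choose bad hbad using hbad
      obtain ⟨cb, hcb⟩ := Infinite.exists_notMem_finset ((insert g₀ S).image bad)
      obtain ⟨c, rfl⟩ := Ideal.Quotient.mk_surjective cb
      refine ⟨u + c • w, fun i hi => by rw [smul_add, smul_comm i, hu i hi, hw i hi], fun g hg hmem => ?_⟩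
      by_cases hgw : g • w - w ∈ q
      · rcases Finset.mem_insert.mp hg with rfl | hg
        · exact hwg hgw
        · refine huS g hg ?_
          have hcw : algebraMap A R c * (g • w - w) ∈ q := q.mul_mem_left _ hgw
          have := q.sub_mem hmem hcw
          simp only [smul_add, Algebra.smul_def, smul_mul', smul_algebraMap] at this
          convert this using 1
          ring
      · exact hcb (Finset.mem_image.mpr ⟨g, hg, (hbad g hgw c hmem).symm⟩)
  · haveI := finite_quotient A G q
    haveI : q.IsMaximal := by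
      rw [Ideal.Quotient.maximal_ideal_iff_isField_quotient]
      exact Finite.isField_of_domain _
    let M : Subring R := FixedPoints.subring R (q.inertia G)
    let f : M →+* R ⧸ q := (Ideal.Quotient.mk q).comp M.subtype
    haveI : Finite f.range := inferInstance
    letI : Fintype f.range := Fintype.ofFinite _
    letI : Field f.range := Fintype.fieldOfDomain _
    obtain ⟨a, ha⟩ := IsCyclic.exists_generator (α := f.rangeˣ)
    obtain ⟨e₁, he₁⟩ := (a : f.range).2
    -- an invariant `≡ 1 (mod q)` vanishing at the other primes of the orbit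
    let qg : G → Ideal R := fun g => q.comap (MulSemiringAction.toRingHom G R g)
    have hqgmax : ∀ g, (qg g).IsMaximal := fun g =>
      Ideal.comap_isMaximal_of_surjective _ fun y => ⟨g⁻¹ • y, smul_inv_smul g y⟩
    let J : Ideal R := ⨅ g ∈ (Finset.univ.filter fun g => qg g ≠ q), qg g
    have hJ : q ⊔ J = ⊤ := by
      refine Ideal.sup_iInf_eq_top fun g hg => ?_
      exact Ideal.IsMaximal.coprime_of_ne ‹_› (hqgmax g) (Ne.symm (Finset.mem_filter.mp hg).2)
    obtain ⟨y₀, hy₀, y, hy, hsum⟩ := Submodule.mem_sup.mp ((Ideal.eq_top_iff_one _).mp hJ)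
    letI : Fintype (q.inertia G) := Fintype.ofFinite _
    let v : R := ∏ i : q.inertia G, (i : G) • y
    have hvfix : ∀ i ∈ q.inertia G, i • v = v := fun i hi => by
      show i • (∏ k : q.inertia G, (k : G) • y) = _
      rw [Finset.smul_prod']
      refine Fintype.prod_equiv (Equiv.mulLeft (⟨i, hi⟩ : q.inertia G)) _ _ fun k => ?_
      rw [← mul_smul]
      rfl
    have hy1 : Ideal.Quotient.mk q y = 1 := by
      rw [← map_one (Ideal.Quotient.mk q), ← hsum, map_add, Ideal.Quotient.eq_zero_iff_mem.mpr hy₀, zero_add]
    have hv1 : Ideal.Quotient.mk q v = 1 := by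
      rw [map_prod]
      exact Finset.prod_eq_one fun k _ => (Ideal.Quotient.eq.mpr (mem_inertia.mp k.2 y)).trans hy1
    let e : R := v * e₁
    have hefix : ∀ i ∈ q.inertia G, i • e = e := fun i hi => by
      show i • (v * e₁) = _
      rw [smul_mul', hvfix i hi, show i • (e₁ : R) = e₁ from e₁.2 ⟨i, hi⟩]
    have he : Ideal.Quotient.mk q e = ((a : f.range) : R ⧸ q) := by
      rw [map_mul, hv1, one_mul]; exact he₁
    refine ⟨e, hefix, fun g hg hmem => ?_⟩
    by_cases hgq : qg g = q
    · -- `g` fixes the generator, hence all of the image of the invariants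
      obtain ⟨w, hw, hwg⟩ := exists_fixed_sub_notMem q hg
      by_cases hw0 : Ideal.Quotient.mk q w = 0
      · have hwq := Ideal.Quotient.eq_zero_iff_mem.mp hw0
        have : g • w ∈ q := by rw [← hgq] at hwq; exact hwq
        exact hwg (q.sub_mem this hwq)
      · let wM : f.range := ⟨Ideal.Quotient.mk q w, ⟨w, fun i => hw i i.2⟩, rfl⟩
        have hwM : wM ≠ 0 := fun h => hw0 (congrArg Subtype.val h)
        obtain ⟨n, hn⟩ := (Submonoid.mem_powers_iff _ _).mp
          ((mem_powers_iff_mem_zpowers (x := a)).mpr (ha (Units.mk0 wM hwM)))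
        have hwe : Ideal.Quotient.mk q w = Ideal.Quotient.mk q (e ^ n) := by
          rw [map_pow, he]
          have := congrArg (fun z : f.rangeˣ => ((z : f.range) : R ⧸ q)) hn
          simpa [wM] using this.symm
        refine hwg (Ideal.Quotient.eq.mp ?_)
        have hg1 : Ideal.Quotient.mk q (g • w) = Ideal.Quotient.mk q (g • (e ^ n)) := by
          refine Ideal.Quotient.eq.mpr ?_
          rw [← smul_sub]
          have := Ideal.Quotient.eq.mp hwe
          rw [← hgq] at this
          exact this
        rw [hg1, hwe, smul_pow', map_pow, map_pow, Ideal.Quotient.eq.mpr hmem]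
    · have hye : g • e ∈ q := by
        have hyg : g • y ∈ q := (Submodule.mem_iInf _).mp ((Submodule.mem_iInf _).mp hy g) (by simp [hgq])
        show g • (v * e₁) ∈ q
        rw [smul_mul']
        refine q.mul_mem_right _ ?_
        show g • (∏ i : q.inertia G, (i : G) • y) ∈ q
        rw [Finset.smul_prod']
        exact q.prod_mem (Finset.mem_univ 1) (by simpa using hyg)
      have : e ∈ q := by simpa using q.sub_mem hye hmem
      have h0 : ((a : f.range) : R ⧸ q) = 0 := by rw [← he, Ideal.Quotient.eq_zero_iff_mem.mpr this]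
      exact a.ne_zero (Subtype.ext h0)

end Groth.Agent.InertiaEtale4
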