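import Groth.Agent.Lib.InertiaEtale4.Core
import Groth.Agent.Lib.InertiaEtale4.Sep
import Groth.Agent.Lib.IndEt.Algebra
import Mathlib

/-!
# Inertia invariants in an infinite Galois extension form an ind-étale algebra

Lifting of inertia elements from finite levels, and the finite level étale neighbourhoods.
-/

universe u

open scoped Pointwise

namespace Groth.Agent.InertiaEtale4

variable {A K L : Type u} [CommRing A] [Field K] [Field L] [Algebra A K] [Algebra K L] [Algebra A L]
  [IsScalarTower A K L]

instance smulCommClass_gal {F : Type u} [Field F] [Algebra K F] [Algebra A F] [IsScalarTower A K F] :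
    SMulCommClass (F ≃ₐ[K] F) A F :=
  ⟨fun σ a x => by
    show σ (a • x) = a • σ x
    exact σ.toLinearMap.map_smul_of_tower a x⟩

/-- The inclusion of integral closures. -/
def icIncl (A : Type u) [CommRing A] [Algebra A K] [Algebra A L] [IsScalarTower A K L]
    (N : IntermediateField K L) : integralClosure A N →ₐ[A] integralClosure A L :=
  ((N.val.restrictScalars A).comp (integralClosure A N).val).codRestrict _
    fun x => x.2.map (N.val.restrictScalars A)

theorem coe_icIncl (N : IntermediateField K L) (x : integralClosure A N) :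
    (icIncl A N x : L) = ((x : N) : L) := rfl

theorem icIncl_injective (N : IntermediateField K L) : Function.Injective (icIncl A N) :=
  fun x y h => Subtype.ext (Subtype.ext (congrArg (fun c : integralClosure A L => (c : L)) h :))

/-- Inertia elements of a finite normal level lift to inertia elements. -/
theorem exists_inertia_lift [IsGalois K L] (q : Ideal (integralClosure A L)) [q.IsPrime]
    (N : IntermediateField K L) [Normal K N] (g : N ≃ₐ[K] N)
    (hg : ∀ x : integralClosure A N, g • x - x ∈ q.comap (icIncl A N)) :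
    ∃ σ : L ≃ₐ[K] L, (∀ c : integralClosure A L, σ • c - c ∈ q) ∧ ∀ x : N, σ x = g x := by
  let C := integralClosure A L
  let CN := integralClosure A N
  letI : Algebra CN C := (icIncl A N).toRingHom.toAlgebra
  haveI : IsGalois N L := IsGalois.tower_top_of_isGalois K N L
  haveI : IsScalarTower A N L := IsScalarTower.of_algebraMap_eq fun a => by
    rw [IsScalarTower.algebraMap_apply A K N, ← IsScalarTower.algebraMap_apply K N L,
      ← IsScalarTower.algebraMap_apply A K L]
  haveI : SMulCommClass (L ≃ₐ[N] L) A L := ⟨fun σ a x => σ.toLinearMap.map_smul_of_tower a x⟩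
  haveI : SMulCommClass (L ≃ₐ[N] L) CN C := ⟨fun τ n c => by
    refine Subtype.ext ?_
    show τ (((n : N) : L) * (c : L)) = ((n : N) : L) * τ (c : L)
    rw [map_mul]
    congr 1
    exact τ.commutes (n : N)⟩
  haveI : Algebra.IsInvariant CN C (L ≃ₐ[N] L) := ⟨fun c hc => by
    obtain ⟨k, hk⟩ : (c : L) ∈ Set.range (algebraMap N L) :=
      (InfiniteGalois.mem_range_algebraMap_iff_fixed _).mpr fun τ => congrArg Subtype.val (hc τ)
    refine ⟨⟨k, (isIntegral_algHom_iff (N.val.restrictScalars A) N.val.injective).mp ?_⟩, Subtype.ext hk⟩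
    show IsIntegral A (algebraMap N L k)
    rw [hk]; exact c.2⟩
  letI : TopologicalSpace C := ⊥
  haveI : DiscreteTopology C := ⟨rfl⟩
  haveI : ContinuousSMul (L ≃ₐ[N] L) C := by
    refine ⟨continuous_prod_of_discrete_right.mpr fun c => continuous_discrete_rng.mpr fun d => ?_⟩
    rw [isOpen_iff_forall_mem_open]
    intro τ hτ
    refine ⟨(fun h => τ * h) '' (MulAction.stabilizer (L ≃ₐ[N] L) (c : L) : Set (L ≃ₐ[N] L)), ?_, ?_,
      ⟨1, one_mem _, mul_one τ⟩⟩
    · rintro _ ⟨h, hh, rfl⟩
      have : h • c = c := Subtype.ext hh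
      show (τ * h) • c = d
      rw [mul_smul, this]
      exact hτ
    · exact (Homeomorph.mulLeft τ).isOpenMap _ (stabilizer_isOpen_of_isIntegral (c : L))
  -- a lift of `g`
  let σ : L ≃ₐ[K] L := g.liftNormal L
  have hσ : ∀ x : N, σ x = g x := fun x => g.liftNormal_commutes L x
  have hσι : ∀ n : CN, σ • icIncl A N n = icIncl A N (g • n) := fun n => Subtype.ext (hσ n)
  let q₂ : Ideal C := q.comap (MulSemiringAction.toRingHom (L ≃ₐ[K] L) C σ)
  haveI : q₂.IsPrime := Ideal.comap_isPrime _ _
  have hn : ∀ n : CN, icIncl A N (g • n) ∈ q ↔ icIncl A N n ∈ q := fun n => by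
    have h := hg n
    rw [Ideal.mem_comap, map_sub] at h
    exact ⟨fun h' => by simpa using q.sub_mem h' h, fun h' => by simpa using q.add_mem h h'⟩
  obtain ⟨τ, hτ⟩ := Algebra.IsInvariant.exists_smul_of_under_eq_of_profinite (A := CN)
    (G := L ≃ₐ[N] L) q q₂ (by
      ext n
      show icIncl A N n ∈ q ↔ σ • icIncl A N n ∈ q
      rw [hσι, hn])
  let σ₁ : L ≃ₐ[K] L := σ * τ.restrictScalars K
  have hσ₁c : ∀ c : C, σ₁ • c = σ • (τ • c) := fun c => Subtype.ext rfl
  have hσ₁q : ∀ c : C, σ₁ • c ∈ q ↔ c ∈ q := fun c => by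
    rw [hσ₁c]
    show τ • c ∈ q₂ ↔ _
    rw [hτ, Ideal.smul_mem_pointwise_smul_iff]
  have hσ₁N : ∀ x : N, σ₁ x = g x := fun x => by
    show σ (τ (x : L)) = _
    rw [show τ (x : L) = x from τ.commutes x, hσ]
  let P : Ideal CN := q.under CN
  let e₀ : (C ⧸ q) ≃+* (C ⧸ q) :=
    Ideal.quotientEquiv q q (MulSemiringAction.toRingEquiv (L ≃ₐ[K] L) C σ₁) (by
      ext c
      constructor
      · intro hc
        have h1 : σ₁⁻¹ • c ∈ q := (hσ₁q _).mp (by rwa [smul_inv_smul])
        have h2 := Ideal.mem_map_of_mem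
          (f := ((MulSemiringAction.toRingEquiv (L ≃ₐ[K] L) C σ₁ : C ≃+* C) : C →+* C)) h1
        convert h2 using 1
        exact (smul_inv_smul σ₁ c).symm
      · intro hc
        obtain ⟨y, hy, rfl⟩ := (Ideal.mem_map_iff_of_surjective _
          (MulSemiringAction.toRingEquiv (L ≃ₐ[K] L) C σ₁).surjective).mp hc
        exact (hσ₁q y).mpr hy)
  let e : (C ⧸ q) ≃ₐ[CN ⧸ P] (C ⧸ q) := AlgEquiv.ofRingEquiv (f := e₀) (by
    intro y
    obtain ⟨n, rfl⟩ := Ideal.Quotient.mk_surjective y
    show Ideal.Quotient.mk q (σ₁ • icIncl A N n) = Ideal.Quotient.mk q (icIncl A N n)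
    rw [show σ₁ • icIncl A N n = icIncl A N (g • n) from Subtype.ext (hσ₁N n), Ideal.Quotient.eq,
      ← map_sub]
    exact hg n)
  obtain ⟨τ', hτ'⟩ := Ideal.Quotient.stabilizerHom_surjective_of_profinite (G := L ≃ₐ[N] L) P q e
  refine ⟨σ₁ * (τ'.1⁻¹).restrictScalars K, fun c => ?_, fun x => ?_⟩
  · rw [← Ideal.Quotient.eq, mul_smul]
    have h1 : ((τ'.1⁻¹).restrictScalars K) • c = τ'.1⁻¹ • c := Subtype.ext rfl
    rw [h1]
    have h2 := DFunLike.congr_fun hτ' (Ideal.Quotient.mk q (τ'.1⁻¹ • c))
    refine h2.symm.trans ?_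
    show Ideal.Quotient.mk q (τ'.1 • τ'.1⁻¹ • c) = _
    rw [smul_inv_smul]
  · show σ₁ (τ'.1⁻¹ (x : L)) = _
    rw [show τ'.1⁻¹ (x : L) = x from (τ'.1⁻¹).commutes x, hσ₁N]

/-- The main statement: `(B^I)_q` is ind-étale over `A`. -/
theorem isIndEtale_inertiaInvariants [IsDomain A] [IsIntegrallyClosed A] [IsFractionRing A K]
    [IsGalois K L] (q : Ideal (integralClosure A L)) [q.IsPrime]
    (S : Subalgebra A L) (hle : S ≤ integralClosure A L)
    (hS : ∀ c : integralClosure A L, (c : L) ∈ S ↔
      ∀ σ : L ≃ₐ[K] L, (∀ d : integralClosure A L, σ • d - d ∈ q) → σ • c = c) :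
    EtPBC.IsIndEtale A (Localization.AtPrime (q.comap (Subalgebra.inclusion hle))) := by
  classical
  let p := q.comap (Subalgebra.inclusion hle)
  let T := Localization.AtPrime p
  refine GrothLib.IndEt.of_exists_etale fun Z _ _ _ g => ?_
  obtain ⟨gens, hgens⟩ := (inferInstance : Algebra.FiniteType A Z).out
  choose nd hnd using fun z : Z => IsLocalization.surj p.primeCompl (g z)
  let num : Z → S := fun z => (nd z).1
  let den : Z → p.primeCompl := fun z => (nd z).2
  let vals : Set L := (fun z => ((num z : S) : L)) '' gens ∪ (fun z => (((den z : p.primeCompl) : S) : L)) '' gens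
  haveI : Finite vals := ((gens.finite_toSet.image _).union (gens.finite_toSet.image _)).to_subtype
  haveI : FiniteDimensional K (IntermediateField.adjoin K vals) :=
    IntermediateField.finiteDimensional_adjoin fun x _ => Algebra.IsIntegral.isIntegral x
  let N := IntermediateField.normalClosure K (IntermediateField.adjoin K vals) L
  haveI : IsGalois K N := { }
  have hvals : ∀ x ∈ vals, x ∈ N := fun x hx =>
    IntermediateField.le_normalClosure _ (IntermediateField.subset_adjoin K vals hx)
  let CN := integralClosure A N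
  let G := N ≃ₐ[K] N
  haveI : FiniteDimensional K N := inferInstance
  haveI : SMulCommClass G A N := smulCommClass_gal
  haveI : Algebra.IsInvariant A CN G := ⟨fun c hc => by
    obtain ⟨k, hk⟩ : (c : N) ∈ Set.range (algebraMap K N) :=
      (IsGalois.mem_range_algebraMap_iff_fixed _).mpr fun σ => congrArg Subtype.val (hc σ)
    have hkint : IsIntegral A k := (isIntegral_algHom_iff (IsScalarTower.toAlgHom A K N)
      (algebraMap K N).injective).mp (by
        show IsIntegral A (algebraMap K N k)
        rw [hk]; exact c.2)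
    obtain ⟨a, rfl⟩ := IsIntegrallyClosed.isIntegral_iff.mp hkint
    exact ⟨a, Subtype.ext ((IsScalarTower.algebraMap_apply A K N a).trans hk)⟩⟩
  let qN : Ideal CN := q.comap (icIncl A N)
  haveI : qN.IsPrime := Ideal.comap_isPrime _ _
  let H := qN.inertia G
  let B : Subalgebra A CN :=
    { carrier := {x | ∀ h ∈ H, h • x = x}
      mul_mem' := fun {a b} ha hb h hh => by rw [smul_mul', ha h hh, hb h hh]
      add_mem' := fun {a b} ha hb h hh => by rw [smul_add, ha h hh, hb h hh]
      algebraMap_mem' := fun r h _ => smul_algebraMap h r }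
  obtain ⟨e, he, hsep⟩ := exists_separating A (G := G) qN
  have hAN : Function.Injective (algebraMap A CN) := fun a b hab => by
    have : algebraMap A N a = algebraMap A N b := congrArg Subtype.val hab
    rw [IsScalarTower.algebraMap_apply A K N, IsScalarTower.algebraMap_apply A K N] at this
    exact IsFractionRing.injective A K ((algebraMap K N).injective this)
  obtain ⟨b, hb, hEt⟩ := exists_etale_away hAN B.val Subtype.val_injective H
    (fun r => ⟨by rintro ⟨x, rfl⟩; exact x.2, fun hr => ⟨⟨r, hr⟩, rfl⟩⟩) qN ⟨e, he⟩ hsep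
  -- `B` maps to `S`
  have hBS : ∀ x : B, ((icIncl A N (x : CN) : integralClosure A L) : L) ∈ S := fun x => by
    rw [hS]
    intro σ hσ
    have hmem : σ.restrictNormal N ∈ H := fun y => by
      show icIncl A N (σ.restrictNormal N • y - y) ∈ q
      rw [map_sub, show icIncl A N (σ.restrictNormal N • y) = σ • icIncl A N y from
        Subtype.ext (σ.restrictNormal_commutes N (y : N))]
      exact hσ _
    refine Subtype.ext ?_
    show σ (((x : CN) : N) : L) = _
    exact (σ.restrictNormal_commutes N ((x : CN) : N)).symm.trans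
      (congrArg (fun z : CN => ((z : N) : L)) (x.2 _ hmem))
  let J : B →ₐ[A] S := ((integralClosure A L).val.comp ((icIncl A N).comp B.val)).codRestrict S hBS
  -- elements of `S` inside `N` come from `B`
  have hSB : ∀ s : S, (s : L) ∈ N → ∃ x : B, J x = s := fun s hs => by
    have hint : IsIntegral A (⟨(s : L), hs⟩ : N) :=
      (isIntegral_algHom_iff (N.val.restrictScalars A) N.val.injective).mp (hle s.2)
    refine ⟨⟨⟨⟨(s : L), hs⟩, hint⟩, fun h hh => ?_⟩, Subtype.ext rfl⟩
    obtain ⟨σ, hσ, hσN⟩ := exists_inertia_lift q N h hh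
    have := congrArg Subtype.val ((hS ⟨(s : L), hle s.2⟩).mp s.2 σ hσ)
    exact Subtype.ext (Subtype.ext ((hσN ⟨(s : L), hs⟩).symm.trans this))
  choose! pre hpre using hSB
  let U : B := ∏ z ∈ gens, pre ((den z : p.primeCompl) : S)
  have hden : ∀ z ∈ gens, J (pre ((den z : p.primeCompl) : S)) = (den z : p.primeCompl) := fun z hz =>
    hpre _ (hvals _ (Or.inr ⟨z, hz, rfl⟩))
  have hnum : ∀ z ∈ gens, J (pre (num z)) = num z := fun z hz =>
    hpre _ (hvals _ (Or.inl ⟨z, hz, rfl⟩))
  haveI : Algebra.Etale A (Localization.Away (b * U)) := by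
    let T' := Localization.Away (algebraMap B (Localization.Away b) U)
    haveI : IsLocalization.Away (b * U) T' := IsLocalization.Away.mul' (Localization.Away b) T' b U
    haveI : Algebra.Etale A T' := inferInstance
    exact Algebra.Etale.of_equiv
      ((IsLocalization.algEquiv (Submonoid.powers (b * U)) T' (Localization.Away (b * U))).restrictScalars A)
  let V := Localization.Away (b * U)
  let ψ : B →ₐ[A] T := (IsScalarTower.toAlgHom A S T).comp J
  have hψinj : Function.Injective ψ := by
    refine (IsLocalization.injective T (M := p.primeCompl) p.primeCompl_le_nonZeroDivisors).comp ?_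
    intro x y hxy
    exact Subtype.ext (icIncl_injective N (Subtype.ext (congrArg (fun s : S => (s : L)) hxy :)))
  have hunit : IsUnit (ψ (b * U)) := by
    rw [map_mul, IsUnit.mul_iff]
    refine ⟨IsLocalization.map_units T (⟨J b, hb⟩ : p.primeCompl), ?_⟩
    rw [map_prod]
    refine IsUnit.prod_iff.mpr fun z hz => ?_
    show IsUnit (algebraMap S T (J _))
    rw [hden z hz]
    exact IsLocalization.map_units T (den z)
  let φ : V →ₐ[A] T := IsLocalization.liftAlgHom (M := Submonoid.powers (b * U)) (f := ψ) (by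
    rintro ⟨_, n, rfl⟩
    simpa using hunit.pow n)
  have hφe : ∀ x : B, φ (algebraMap B V x) = ψ x := fun x => IsLocalization.lift_eq _ x
  have hφ : Function.Injective φ := by
    refine (injective_iff_map_eq_zero φ).mpr fun v hv => ?_
    obtain ⟨x, m, rfl⟩ := IsLocalization.exists_mk'_eq (Submonoid.powers (b * U)) v
    have : ψ x = 0 := by rw [← hφe, ← IsLocalization.mk'_spec V x m, map_mul, hv, zero_mul]
    rw [hψinj (this.trans (map_zero ψ).symm), IsLocalization.mk'_zero]
  have hrange : ∀ z, g z ∈ φ.range := by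
    intro z
    have hz : z ∈ Algebra.adjoin A (gens : Set Z) := hgens ▸ Algebra.mem_top
    refine (Algebra.adjoin_le (S := φ.range.comap g) ?_ : _ ≤ φ.range.comap g) hz
    intro z hz
    have hu : IsUnit (algebraMap B V (pre ((den z : p.primeCompl) : S))) := by
      have := IsLocalization.Away.algebraMap_isUnit (S := V) (b * U)
      rw [map_mul, IsUnit.mul_iff] at this
      exact isUnit_of_dvd_unit (map_dvd _
        (Finset.dvd_prod_of_mem (fun z => pre ((den z : p.primeCompl) : S)) hz)) this.2
    refine ⟨algebraMap B V (pre (num z)) * ↑hu.unit⁻¹, ?_⟩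
    refine (IsLocalization.map_units T (den z)).mul_left_injective ?_
    show φ _ * algebraMap S T (den z) = g z * algebraMap S T (den z)
    refine Eq.trans ?_ (hnd z).symm
    have e1 : algebraMap S T (den z) = φ (algebraMap B V (pre ((den z : p.primeCompl) : S))) := by
      rw [hφe]; exact (congrArg (algebraMap S T) (hden z hz)).symm
    rw [e1, ← map_mul, mul_assoc, IsUnit.val_inv_mul, mul_one, hφe]
    exact congrArg (algebraMap S T) (hnum z hz)
  exact ⟨V, inferInstance, inferInstance, inferInstance,
    (AlgEquiv.ofInjective φ hφ).symm.toAlgHom.comp (g.codRestrict φ.range hrange), φ,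
    AlgHom.ext fun z => congrArg Subtype.val ((AlgEquiv.ofInjective φ hφ).apply_symm_apply ⟨g z, hrange z⟩)⟩

end Groth.Agent.InertiaEtale4
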