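import Mathlib

/-!
# Localising a semilocal domain of dimension one at a maximal ideal
-/

universe u

namespace Groth.Agent.InertiaEtale4

theorem exists_away_isLocalization_atPrime {A B : Type u} [CommRing A] [IsLocalRing A] [CommRing B] [IsDomain B]
    [IsNoetherianRing B] [Algebra A B] [Algebra.IsIntegral A B] [Ring.DimensionLEOne B]
    (p : Ideal B) [p.IsMaximal] (b : B) (hb : b ∉ p) :
    ∃ c : B, c ∉ p ∧ b ∣ c ∧ IsLocalization p.primeCompl (Localization.Away c) := by
  classical
  have hfin : {M : Ideal B | M.IsMaximal}.Finite := by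
    refine ((IsLocalRing.maximalIdeal A).map (algebraMap A B)).finite_minimalPrimes_of_isNoetherianRing.subset ?_
    intro M hM
    haveI : M.IsMaximal := hM
    have hc : M.comap (algebraMap A B) = IsLocalRing.maximalIdeal A :=
      IsLocalRing.eq_maximalIdeal (Ideal.isMaximal_comap_of_isIntegral_of_isMaximal M)
    refine ⟨⟨inferInstance, Ideal.map_le_iff_le_comap.mpr hc.ge⟩, fun P hP hPM => ?_⟩
    haveI := hP.1
    have hPc : P.comap (algebraMap A B) = IsLocalRing.maximalIdeal A :=
      le_antisymm (hc ▸ Ideal.comap_mono hPM) (Ideal.map_le_iff_le_comap.mp hP.2)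
    haveI : (P.comap (algebraMap A B)).IsMaximal := by rw [hPc]; infer_instance
    exact ((Ideal.isMaximal_of_isIntegral_of_isMaximal_comap P this).eq_of_le
      (Ideal.IsPrime.ne_top inferInstance) hPM).ge
  have hch : ∀ M ∈ hfin.toFinset.erase p, ∃ c ∈ M, c ∉ p := fun M hM => by
    obtain ⟨hne, hMx⟩ := Finset.mem_erase.mp hM
    rw [Set.Finite.mem_toFinset] at hMx
    exact Set.not_subset.mp fun hle => hne ((Ideal.IsMaximal.eq_of_le hMx (Ideal.IsMaximal.ne_top ‹_›) hle))
  choose f hfM hfp using hch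
  let c := b * ∏ M ∈ (hfin.toFinset.erase p).attach, f M.1 M.2
  have hc : c ∉ p := by
    intro h
    rcases (Ideal.IsMaximal.isPrime ‹p.IsMaximal›).mem_or_mem h with h | h
    · exact hb h
    · obtain ⟨M, -, hM⟩ := Ideal.IsPrime.prod_mem_iff.mp h
      exact hfp _ _ hM
  refine ⟨c, hc, dvd_mul_right _ _, ?_⟩
  refine IsLocalization.isLocalization_of_is_exists_mul_mem (Localization.Away c) (Submonoid.powers c) p.primeCompl
    (Submonoid.powers_le.mpr hc) fun x => ?_
  obtain ⟨s, hs⟩ := x
  -- `c` lies in the radical of `(s)`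
  have hrad : c ∈ (Ideal.span {s}).radical := by
    rw [Ideal.radical_eq_sInf]
    refine Submodule.mem_sInf.mpr fun (P : Ideal B) hP => ?_
    obtain ⟨hsP, hP⟩ := hP
    have hs0 : s ≠ 0 := fun h => hs (h ▸ p.zero_mem)
    have hne : P ≠ ⊥ := fun h => hs0 (by simpa [h] using hsP (Ideal.mem_span_singleton_self s))
    haveI : P.IsMaximal := Ring.DimensionLEOne.maximalOfPrime hne hP
    have hPp : P ≠ p := fun h => hs (h ▸ hsP (Ideal.mem_span_singleton_self s))
    have hmem : P ∈ hfin.toFinset.erase p :=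
      Finset.mem_erase.mpr ⟨hPp, (Set.Finite.mem_toFinset _).mpr ‹P.IsMaximal›⟩
    refine P.mul_mem_left _ ?_
    exact P.prod_mem (Finset.mem_attach _ (⟨P, hmem⟩ : {x // x ∈ hfin.toFinset.erase p})) (hfM P hmem)
  obtain ⟨n, hn⟩ := hrad
  obtain ⟨z, hz⟩ := Ideal.mem_span_singleton.mp hn
  exact ⟨z, n, by simp [hz, mul_comm]⟩

end Groth.Agent.InertiaEtale4
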